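import Groth.Agent.Lib.FlatCx.Elem
import Mathlib.Algebra.Homology.Monoidal
import Mathlib.Algebra.Homology.QuasiIso
import Mathlib.Algebra.Homology.SingleHomology
import Mathlib.Algebra.Category.ModuleCat.Monoidal.Basic
import Mathlib.Algebra.Category.ModuleCat.Colimits
import Mathlib.LinearAlgebra.TensorProduct.RightExactness
import Mathlib.RingTheory.Flat.Basic

/-!
# First homology of a tensor product with a resolution
-/

set_option autoImplicit false

universe v

open CategoryTheory CategoryTheory.Limits MonoidalCategory HomologicalComplex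
open scoped TensorProduct
open Groth.Agent.Lib.FlatCx.Elem

namespace Groth.Agent.Lib.BiExt.HOne

variable {R : Type v} [CommRing R]

/-- Chain complexes. -/
abbrev Ch (R : Type v) [CommRing R] : Type (v + 1) := ChainComplex (ModuleCat.{v} R) ℕ

variable (C P : Ch R)

/-- The inclusion of a summand. -/
noncomputable def incl (i j n : ℕ) (h : i + j = n) : (C.X i ⊗[R] P.X j) →ₗ[R] (C ⊗ P).X n :=
  (ιTensorObj C P i j n h).hom

variable {C P} in
/-- Linear maps agreeing on the summands are equal. -/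
lemma hom_ext' {n : ℕ} {N : Type v} [AddCommGroup N] [Module R N]
    {f g : (C ⊗ P).X n →ₗ[R] N}
    (h : ∀ i j hij, f ∘ₗ incl C P i j n hij = g ∘ₗ incl C P i j n hij) : f = g := by
  have : ModuleCat.ofHom f = ModuleCat.ofHom g := by
    refine mapBifunctor.hom_ext (fun i j hij => ?_)
    exact ModuleCat.hom_ext (h i j hij)
  exact congrArg ModuleCat.Hom.hom this

variable {C P} in
/-- Induction on elements of the tensor complex. -/
@[elab_as_elim]
lemma induction {n : ℕ} {motive : (C ⊗ P).X n → Prop} (x : (C ⊗ P).X n)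
    (zero : motive 0) (inc : ∀ i j hij y, motive (incl C P i j n hij y))
    (add : ∀ a b, motive a → motive b → motive (a + b)) : motive x := by
  set S := ⨆ (i : ℕ) (j : ℕ) (h : i + j = n), LinearMap.range (incl C P i j n h) with hS
  have h0 : S.mkQ = 0 := by
    refine hom_ext' (fun i j hij => ?_)
    apply LinearMap.ext
    intro y
    refine (Submodule.Quotient.mk_eq_zero S).2 ?_
    exact Submodule.mem_iSup_of_mem i (Submodule.mem_iSup_of_mem j
      (Submodule.mem_iSup_of_mem hij ⟨y, rfl⟩))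
  have hx : x ∈ S := by
    rw [← Submodule.ker_mkQ S, h0, LinearMap.ker_zero]; trivial
  refine Submodule.iSup_induction _ (motive := motive) hx (fun i x hx => ?_) zero add
  refine Submodule.iSup_induction _ (motive := motive) hx (fun j x hx => ?_) zero add
  refine Submodule.iSup_induction _ (motive := motive) hx (fun h x hx => ?_) zero add
  obtain ⟨y, rfl⟩ := hx
  exact inc i j h y

/-- The projection onto a summand. -/
noncomputable def proj (i j n : ℕ) : (C ⊗ P).X n →ₗ[R] (C.X i ⊗[R] P.X j) :=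
  (mapBifunctorDesc (F := curriedTensor (ModuleCat.{v} R))
    (A := ModuleCat.of R (C.X i ⊗[R] P.X j))
    (fun i' j' _ => if e : i' = i ∧ j' = j then eqToHom (by obtain ⟨rfl, rfl⟩ := e; rfl) else 0)).hom

lemma incl_injective (i j n : ℕ) (h : i + j = n) : Function.Injective (incl C P i j n h) := by
  have key : ∀ x, proj C P i j n (incl C P i j n h x) = x := fun x => by
    refine (ConcreteCategory.congr_hom (ι_mapBifunctorDesc (K₁ := C) (K₂ := P)
      (F := curriedTensor (ModuleCat.{v} R)) (c := ComplexShape.down ℕ) (j := n) _ i j h) x).trans ?_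
    simp only [and_self, dite_true, eqToHom_refl]
    rfl
  intro x y e
  rw [← key x, e, key y]

/-- The differential on the summand `(i+1, 0)`. -/
lemma d_incl_left (i : ℕ) (x : C.X (i + 1) ⊗[R] P.X 0) :
    (C ⊗ P).d (i + 1) i (incl C P (i + 1) 0 (i + 1) rfl x) =
      incl C P i 0 i rfl ((C.d (i + 1) i).hom.rTensor (P.X 0) x) := by
  have e : ιTensorObj C P (i + 1) 0 (i + 1) rfl ≫ (mapBifunctor C P (curriedTensor _) (ComplexShape.down ℕ)).d (i + 1) i =
      ((curriedTensor (ModuleCat.{v} R)).map (C.d (i + 1) i)).app (P.X 0) ≫ ιTensorObj C P i 0 i rfl := by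
    rw [mapBifunctor.d_eq, Preadditive.comp_add, mapBifunctor.ι_D₁, mapBifunctor.ι_D₂,
      mapBifunctor.d₁_eq _ _ _ _ (show (ComplexShape.down ℕ).Rel (i + 1) i from rfl) _ _
        (show ComplexShape.π _ _ (ComplexShape.down ℕ) (i, 0) = i from rfl),
      mapBifunctor.d₂_eq_zero _ _ _ _ _ _ _ (by simp), add_zero]
    exact one_smul _ _
  exact ConcreteCategory.congr_hom e x

/-- The differential on the summand `(0, j+1)`. -/
lemma d_incl_right (j : ℕ) (x : C.X 0 ⊗[R] P.X (j + 1)) :
    (C ⊗ P).d (j + 1) j (incl C P 0 (j + 1) (j + 1) (zero_add _) x) =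
      incl C P 0 j j (zero_add _) ((P.d (j + 1) j).hom.lTensor (C.X 0) x) := by
  have e : ιTensorObj C P 0 (j + 1) (j + 1) (zero_add _) ≫
        (mapBifunctor C P (curriedTensor _) (ComplexShape.down ℕ)).d (j + 1) j =
      ((curriedTensor (ModuleCat.{v} R)).obj (C.X 0)).map (P.d (j + 1) j) ≫
        ιTensorObj C P 0 j j (zero_add _) := by
    rw [mapBifunctor.d_eq, Preadditive.comp_add, mapBifunctor.ι_D₁, mapBifunctor.ι_D₂,
      mapBifunctor.d₁_eq_zero _ _ _ _ _ _ _ (by simp),
      mapBifunctor.d₂_eq _ _ _ _ _ (show (ComplexShape.down ℕ).Rel (j + 1) j from rfl) _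
        (show ComplexShape.π _ _ (ComplexShape.down ℕ) (0, j) = j from zero_add j), zero_add]
    exact one_smul _ _
  exact ConcreteCategory.congr_hom e x

/-- The differential on the summand `(1, 1)`. -/
lemma d_incl_mid (x : C.X 1 ⊗[R] P.X 1) :
    (C ⊗ P).d (1 + 1) 1 (incl C P 1 1 2 rfl x) =
      incl C P 0 1 1 rfl ((C.d 1 0).hom.rTensor (P.X 1) x) -
        incl C P 1 0 1 rfl ((P.d 1 0).hom.lTensor (C.X 1) x) := by
  have e : ιTensorObj C P 1 1 2 rfl ≫ (mapBifunctor C P (curriedTensor _) (ComplexShape.down ℕ)).d 2 1 =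
      ((curriedTensor (ModuleCat.{v} R)).map (C.d 1 0)).app (P.X 1) ≫ ιTensorObj C P 0 1 1 rfl +
      (-1 : ℤˣ) • (((curriedTensor (ModuleCat.{v} R)).obj (C.X 1)).map (P.d 1 0) ≫
        ιTensorObj C P 1 0 1 rfl) := by
    rw [mapBifunctor.d_eq, Preadditive.comp_add, mapBifunctor.ι_D₁, mapBifunctor.ι_D₂,
      mapBifunctor.d₁_eq _ _ _ _ (show (ComplexShape.down ℕ).Rel 1 0 from rfl) _ _
        (show ComplexShape.π _ _ (ComplexShape.down ℕ) (0, 1) = 1 from rfl),
      mapBifunctor.d₂_eq _ _ _ _ _ (show (ComplexShape.down ℕ).Rel 1 0 from rfl) _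
        (show ComplexShape.π _ _ (ComplexShape.down ℕ) (1, 0) = 1 from rfl)]
    congr 1
    exact one_smul _ _
  refine (ConcreteCategory.congr_hom e x).trans ?_
  rw [Units.neg_smul, one_smul, ← sub_eq_add_neg]
  rfl

variable {P} {Q : Ch R}

lemma whiskerLeft_incl (f : P ⟶ Q) (i j n : ℕ) (h : i + j = n) (x : C.X i ⊗[R] P.X j) :
    (C ◁ f).f n (incl C P i j n h x) = incl C Q i j n h ((f.f j).hom.lTensor (C.X i) x) := by
  have e : ιTensorObj C P i j n h ≫ (HomologicalComplex.tensorHom (𝟙 C) f).f n =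
      ((curriedTensor (ModuleCat.{v} R)).obj (C.X i)).map (f.f j) ≫ ιTensorObj C Q i j n h := by
    rw [ι_mapBifunctorMap, HomologicalComplex.id_f, CategoryTheory.Functor.map_id,
      NatTrans.id_app, Category.id_comp]
  exact ConcreteCategory.congr_hom e x

variable {C} in
lemma exists_eq_one (z : (C ⊗ P).X 1) :
    ∃ a b, z = incl C P 1 0 1 rfl a + incl C P 0 1 1 rfl b := by
  induction z using induction with
  | zero => exact ⟨0, 0, by simp⟩
  | inc i j hij y =>
    obtain ⟨rfl, rfl⟩ | ⟨rfl, rfl⟩ : (i = 1 ∧ j = 0) ∨ (i = 0 ∧ j = 1) := by omega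
    · exact ⟨y, 0, by simp⟩
    · exact ⟨0, y, by simp⟩
  | add a b ha hb =>
    obtain ⟨a₁, a₂, rfl⟩ := ha
    obtain ⟨b₁, b₂, rfl⟩ := hb
    exact ⟨a₁ + b₁, a₂ + b₂, by simp only [map_add]; abel⟩

variable (G : ModuleCat.{v} R)

/-- The complex with `G` in degree zero. -/
noncomputable abbrev single : Ch R := (ChainComplex.single₀ (ModuleCat.{v} R)).obj G

lemma incl_single_eq_zero (i j n : ℕ) (h : i + j = n) (hj : j ≠ 0) (x : C.X i ⊗[R] (single G).X j) :
    incl C (single G) i j n h x = 0 := by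
  have : Subsingleton ((single G).X j) :=
    ModuleCat.subsingleton_of_isZero (HomologicalComplex.isZero_single_obj_X _ _ _ _ hj)
  rw [Subsingleton.elim x 0, map_zero]

variable {C G} in
lemma exists_eq_single (n : ℕ) (z : (C ⊗ single G).X n) :
    ∃ a, z = incl C (single G) n 0 n rfl a := by
  induction z using induction with
  | zero => exact ⟨0, (map_zero _).symm⟩
  | inc i j hij y =>
    rcases Nat.eq_zero_or_pos j with rfl | hj
    · obtain rfl : i = n := hij
      exact ⟨y, rfl⟩
    · exact ⟨0, by rw [incl_single_eq_zero C G i j n hij hj.ne' y, map_zero]⟩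
  | add a b ha hb =>
    obtain ⟨a, rfl⟩ := ha
    obtain ⟨b, rfl⟩ := hb
    exact ⟨a + b, (map_add _ a b).symm⟩

variable {G} (π : P ⟶ single G) [QuasiIso π]
include π

lemma surjective_f_zero : Function.Surjective (π.f 0) := by
  intro g
  obtain ⟨z, y, -, h⟩ := (surjective_homologyMap_iff π (ChainComplex.prev ℕ 0) ChainComplex.next_nat_zero).mp
    ((ConcreteCategory.bijective_of_isIso (homologyMap π 0)).2) g (by simp; rfl)
  exact ⟨z, by rw [h]; simp; exact add_zero g⟩

lemma exact_zero : Function.Exact (P.d 1 0) (π.f 0) := by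
  intro z
  refine ⟨fun h => ?_, ?_⟩
  · obtain ⟨y, hy⟩ := (injective_homologyMap_iff π (ChainComplex.prev ℕ 0) ChainComplex.next_nat_zero).mp
      ((ConcreteCategory.bijective_of_isIso (homologyMap π 0)).1) z (by simp) 0 (by rw [map_zero, h])
    exact ⟨y, hy⟩
  · rintro ⟨y, rfl⟩
    rw [← ConcreteCategory.comp_apply, ← π.comm]
    simp; rfl

lemma exact_one : Function.Exact (P.d 2 1) (P.d 1 0) := by
  intro z
  refine ⟨fun h => ?_, ?_⟩
  · have hz : IsZero (P.homology 1) :=
      (HomologicalComplex.ExactAt.isZero_homology (ChainComplex.exactAt_succ_single_obj G 0)).of_iso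
        (asIso (homologyMap π 1))
    obtain ⟨y, hy⟩ := (isZero_homology_iff (ChainComplex.prev ℕ 1) (ChainComplex.next_nat_succ 0)).mp hz z h
    exact ⟨y, hy⟩
  · rintro ⟨y, rfl⟩
    rw [← ConcreteCategory.comp_apply, HomologicalComplex.d_comp_d]
    rfl

/-- For flat `C₀` the first homology of `C ⊗ P` is that of `C ⊗ G`. -/
theorem isIso_homologyMap_one [Module.Flat R (C.X 0)] : IsIso (homologyMap (C ◁ π) 1) := by
  have hsurj : Function.Surjective (π.f 0).hom := surjective_f_zero π
  have hex : Function.Exact (P.d 1 0).hom (π.f 0).hom := exact_zero π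
  rw [ConcreteCategory.isIso_iff_bijective]
  refine ⟨(injective_homologyMap_iff _ (ChainComplex.prev ℕ 1) (ChainComplex.next_nat_succ 0)).mpr
      fun z hz y hy => ?_,
    (surjective_homologyMap_iff _ (ChainComplex.prev ℕ 1) (ChainComplex.next_nat_succ 0)).mpr
      fun z' hz' => ?_⟩
  · obtain ⟨a, b, rfl⟩ := exists_eq_one z
    obtain ⟨c', rfl⟩ := exists_eq_single 2 y
    rw [d_incl_left, map_add, whiskerLeft_incl, whiskerLeft_incl,
      incl_single_eq_zero C G 0 1 1 rfl one_ne_zero] at hy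
    simp only [add_zero] at hy
    have ha := incl_injective C (single G) 1 0 1 rfl hy
    obtain ⟨c, rfl⟩ := LinearMap.lTensor_surjective (C.X 2) hsurj c'
    obtain ⟨e, he⟩ := (lTensor_exact (C.X 1) hex hsurj (a - (C.d 2 1).hom.rTensor (P.X 0) c)).1 (by
      rw [map_sub, ← ha]
      refine sub_eq_zero.2 ?_
      rw [← LinearMap.comp_apply, ← LinearMap.comp_apply, LinearMap.rTensor_comp_lTensor,
        LinearMap.lTensor_comp_rTensor])
    rw [map_add, d_incl_left, d_incl_right, ← map_add, map_eq_zero_iff _ (incl_injective C P 0 0 0 rfl)] at hz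
    have hb : (P.d 1 0).hom.lTensor (C.X 0) (b + (C.d 1 0).hom.rTensor (P.X 1) e) = 0 := by
      have h1 : (P.d 1 0).hom.lTensor (C.X 0) ((C.d 1 0).hom.rTensor (P.X 1) e) =
          (C.d 1 0).hom.rTensor (P.X 0) ((P.d 1 0).hom.lTensor (C.X 1) e) := by
        rw [← LinearMap.comp_apply, ← LinearMap.comp_apply, LinearMap.rTensor_comp_lTensor,
          LinearMap.lTensor_comp_rTensor]
      have h2 : (C.d 1 0).hom.rTensor (P.X 0) ((C.d 2 1).hom.rTensor (P.X 0) c) = 0 := by
        rw [← LinearMap.rTensor_comp_apply, ← ModuleCat.hom_comp, HomologicalComplex.d_comp_d]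
        simp
      rw [map_add, h1, he, map_sub, h2, sub_zero, add_comm, hz]
    obtain ⟨h, hh⟩ := (Module.Flat.lTensor_exact (C.X 0) (exact_one π) _).1 hb
    refine ⟨incl C P 2 0 2 rfl c - incl C P 1 1 2 rfl e + incl C P 0 2 2 rfl h, ?_⟩
    rw [map_add, map_sub, d_incl_left, d_incl_mid, d_incl_right, hh, he, map_sub, map_add]
    abel
  · obtain ⟨g, rfl⟩ := exists_eq_single 1 z'
    obtain ⟨a, rfl⟩ := LinearMap.lTensor_surjective (C.X 1) hsurj g
    rw [d_incl_left, map_eq_zero_iff _ (incl_injective C (single G) 0 0 0 rfl)] at hz'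
    obtain ⟨w, hw⟩ := (lTensor_exact (C.X 0) hex hsurj ((C.d 1 0).hom.rTensor (P.X 0) a)).1 (by
      refine Eq.trans ?_ hz'
      rw [← LinearMap.comp_apply, ← LinearMap.comp_apply, LinearMap.rTensor_comp_lTensor,
        LinearMap.lTensor_comp_rTensor])
    refine ⟨incl C P 1 0 1 rfl a + incl C P 0 1 1 rfl (-w), 0, ?_, ?_⟩
    · rw [map_add, d_incl_left, d_incl_right, ← map_add, map_neg, hw, add_neg_cancel, map_zero]
    · rw [map_add, whiskerLeft_incl, whiskerLeft_incl,
        incl_single_eq_zero C G 0 1 1 rfl one_ne_zero, map_zero, add_zero]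

end Groth.Agent.Lib.BiExt.HOne
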